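import Cfsg.Agent.H371.TC.FTwoF
import Cfsg.Agent.H315.CY.TwFRow

/-!
# `²F₄(q)`: the linear characters of `B` moved by `n2`, on the model (helper371, S2452)

`Q` any split (B, N)-pair of `twistedF4 K (2 ^ m)` as in `H315.CY.exists_pairE`.
-/

set_option autoImplicit false
set_option linter.unusedSectionVars false

namespace Cfsg.Agent.H371.TC

open Cfsg Cfsg.Lie
open Cfsg.Agent.KFacts.TwF4 Cfsg.Agent.KFacts.TwF4.AutTau
open Cfsg.Agent.SplitTwo Cfsg.Agent.SplitTwo.ZS Cfsg.Agent.TitsThree.RankTwoZ Cfsg.Agent.TitsThree.RankTwoRGD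
open Cfsg.Agent.SplitTwo.RootSysZ Cfsg.Agent.H978.BR
open Cfsg.Agent.ChevalleyStructure.TwF4.Rel Cfsg.Agent.ChevalleyStructure.TwF4.TwistedFix
open Cfsg.Agent.KFacts.TwF4.Inst Cfsg.Agent.H770.CY
open Cfsg.Agent.Schreier.TwFFour
open Cfsg.Agent.Octagon.KSys Cfsg.Agent.H84.GaussTwF4 Cfsg.Agent.H315.CY

variable {K : Type} [Field K] [Fintype K] [CharP K 2] {φ : K →+* K} {m : ℕ}

/-- the field has an element different from `0` and `1` -/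
theorem exists_ne_one (hm : 1 ≤ m) (hK : Fintype.card K = 2 ^ (2 * m + 1)) : ∃ c : Kˣ, c ≠ 1 := by
  by_contra hcon
  push Not at hcon
  have h3 : Nat.card Kˣ = 1 := Nat.card_eq_one_iff_unique.2 ⟨⟨fun a b => by rw [hcon a, hcon b]⟩, ⟨1⟩⟩
  rw [Nat.card_units, Nat.card_eq_fintype_card, hK] at h3
  have h4 : 8 ≤ 2 ^ (2 * m + 1) :=
    calc 8 = 2 ^ 3 := by norm_num
      _ ≤ 2 ^ (2 * m + 1) := Nat.pow_le_pow_right (by norm_num) (by omega)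
  omega

/-- `Q.B = J 1 8 · T` -/
theorem mem_QB (hm : 1 ≤ m) (hK : Fintype.card K = 2 ^ (2 * m + 1)) (hφ : Rln φ (2 ^ m))
    {Q : BNPair ↥(twistedF4 K (2 ^ m))} (hsp : FixBN.Split Q 2 (U0 K (2 ^ m))) (g : ↥(twistedF4 K (2 ^ m))) :
    g ∈ Q.B ↔ ∃ u ∈ J (full hK hφ).XZ 1 8, ∃ t ∈ (full hK hφ).T, g = u * t := by
  have hR : (full hK hφ).R.p = 2 := rfl
  rw [← hsp.normalizer_eq, Subgroup.mem_normalizer_iff, ← J_eq hK hφ]
  exact (mem_UT_iff (full hK hφ) (exists_ne_one hm hK) hR).symm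

/-- **(F2) on the model** -/
theorem zero_model (hm : 1 ≤ m) (hK : Fintype.card K = 2 ^ (2 * m + 1)) (hφ : Rln φ (2 ^ m))
    {Q : BNPair ↥(twistedF4 K (2 ^ m))} (hsp : FixBN.Split Q 2 (U0 K (2 ^ m)))
    (hQS : Q.S = {m1 K (2 ^ m), m2 hφ}) [Fintype Q.B] (mu : Q.B →* ℂˣ)
    (h1 : ∀ u (hu : u ∈ U0 K (2 ^ m)), mu ⟨u, hsp.le hu⟩ = 1)
    (h2 : ∃ b : Q.B, (b : ↥(twistedF4 K (2 ^ m))) ∈ LL (full hK hφ) ∧ mu b ≠ 1)
    (rho : IrrCharacter ↥(Q.parabolic {m2 hφ}))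
    (h : classInner (fun b : Q.B => (rho : Q.parabolic {m2 hφ} → ℂ) ⟨b, Schreier.BNSch.B_le_parabolic Q _ b.2⟩)
      (fun b : Q.B => (mu b : ℂ)) ≠ 0)
    {y : Q.parabolic {m2 hφ}} (hy : ∀ g ∈ Q.parabolic {m2 hφ}, g⁻¹ * (y : ↥(twistedF4 K (2 ^ m))) * g ∉ Q.B) :
    (rho : Q.parabolic {m2 hφ} → ℂ) y = 0 := by
  have hfin : Finite ↥(twistedF4 K (2 ^ m)) := inferInstance
  have hn2 : (full hK hφ).n2 = m2 hφ := rfl
  have hs : m2 hφ ∈ Q.S := by rw [hQS]; exact Or.inr rfl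
  have hU0 := J_eq hK hφ
  have ho : Odd (Nat.card Kˣ) := by
    rw [Nat.card_units, Nat.card_eq_fintype_card, hK]
    exact Nat.Even.sub_odd Nat.one_le_two_pow ((Nat.even_pow' (by omega)).mpr even_two) odd_one
  have hUB : J (full hK hφ).XZ 1 8 ≤ Q.B := by rw [hU0]; exact hsp.le
  exact zero_frame (S := full hK hφ) ho (exists_ne_one hm hK) (Schreier.BNSch.B_le_parabolic Q {m2 hφ})
    (by rw [hn2]; exact Schreier.BNSch.mem_parabolic_self Q _)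
    (fun g hg => by rw [hn2]; exact Schreier.BNSch.mem_parabolic_singleton Q hs hg) hUB
    (fun t ht => (mem_QB hm hK hφ hsp t).2 ⟨1, one_mem _, t, ht, (one_mul t).symm⟩)
    (fun b hb => (mem_QB hm hK hφ hsp b).1 hb) mu (fun u hu => h1 u (by rw [← hU0]; exact hu)) h2 rho h hy

end Cfsg.Agent.H371.TC
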